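import Mathlib
import Groth.Prelude.Def_W4c3tautjacobianRel

/-! The operators `E`, `F` on the formal relation ring and their commutator. -/

set_option autoImplicit false

noncomputable section

open MvPolynomial W4c3tautjacobian

namespace Groth.TautJac

variable {g : ℕ}

/-- The bidegree with integer values. -/
def wz (g : ℕ) (v : Var g) : ℤ × ℤ := (((wt g v).1 : ℤ), ((wt g v).2 : ℤ))

theorem valid_mem_idx {p : ℕ × ℕ} (h : Valid g p) : p ∈ idx g := by
  obtain ⟨h1, h2, -, -⟩ := h
  simp [idx]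
  omega

instance : Finite (Var g) :=
  Finite.of_injective (fun v : Var g => v.map fun p => (⟨p.1, valid_mem_idx p.2⟩ : idx g)) (by
    intro a b h
    cases a <;> cases b <;> simp_all [Subtype.ext_iff])

theorem weight_wz (d : Var g →₀ ℕ) :
    Finsupp.weight (wz g) d =
      (((Finsupp.weight (wt g) d).1 : ℤ), ((Finsupp.weight (wt g) d).2 : ℤ)) := by
  induction d using Finsupp.induction with
  | zero => simp only [map_zero, Prod.fst_zero, Prod.snd_zero, Nat.cast_zero]; rfl
  | single_add a b f _ _ ih =>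
    rw [map_add, map_add, ih]
    simp [Finsupp.weight_apply, wz]

theorem isHom_of_wt {P : RelRing g} {a b : ℕ} (h : IsWeightedHomogeneous (wt g) P (a, b)) :
    IsWeightedHomogeneous (wz g) P ((a : ℤ), (b : ℤ)) := fun d hd => by
  rw [weight_wz, h hd]

theorem eq_zero_of_neg {P : RelRing g} {n : ℤ × ℤ} (h : IsWeightedHomogeneous (wz g) P n) (hn : n.1 < 0) :
    P = 0 := by
  refine MvPolynomial.ext _ _ fun d => ?_
  rw [coeff_zero]
  by_contra hd
  have := h hd
  rw [weight_wz] at this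
  have e := congrArg Prod.fst this
  simp only at e
  omega

theorem xv_of_valid {p : ℕ × ℕ} (h : Valid g p) : xv g p.1 p.2 = X (some ⟨p, h⟩) := by
  have hne : ¬((p.1 : ℤ) = 0 ∧ (p.2 : ℤ) = 0) := fun ⟨a, b⟩ =>
    h.2.2.2 (Prod.ext (by omega) (by omega))
  rw [xv, if_neg hne, dif_pos ⟨by omega, by omega, by simpa using h⟩]
  simp

theorem isHom_xv (i j : ℤ) : IsWeightedHomogeneous (wz g) (xv g i j) (i, j) := by
  unfold xv
  split_ifs with h1 h2
  · obtain ⟨rfl, rfl⟩ := h1
    rw [show ((g : RelRing g)) = C (g : ℚ) from (map_natCast C g).symm]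
    exact isWeightedHomogeneous_C _ _
  · convert isWeightedHomogeneous_X ℚ (wz g) _ using 1
    simp [wz, wt, Int.toNat_of_nonneg h2.1, Int.toNat_of_nonneg h2.2.1]
  · exact isWeightedHomogeneous_zero ℚ _ _

theorem dv_add (p : ℕ × ℕ) (P Q : RelRing g) : dv g p (P + Q) = dv g p P + dv g p Q := by
  unfold dv; split_ifs <;> simp

theorem dv_smul (p : ℕ × ℕ) (c : ℚ) (P : RelRing g) : dv g p (c • P) = c • dv g p P := by
  unfold dv; split_ifs <;> simp

theorem dv_mul (p : ℕ × ℕ) (P Q : RelRing g) : dv g p (P * Q) = dv g p P * Q + P * dv g p Q := by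
  unfold dv; split_ifs <;> simp [mul_comm, add_comm]

theorem isHom_dv {p : ℕ × ℕ} {P : RelRing g} {n : ℤ × ℤ} (h : IsWeightedHomogeneous (wz g) P n) :
    IsWeightedHomogeneous (wz g) (dv g p P) (n - ((p.1 : ℤ), (p.2 : ℤ))) := by
  unfold dv
  split_ifs with hp
  · exact h.pderiv (by simp [wz, wt])
  · exact isWeightedHomogeneous_zero ℚ _ _

theorem F_add (P Q : RelRing g) : F g (P + Q) = F g P + F g Q := by
  simp only [F, dv_add, mul_add, Finset.sum_add_distrib, smul_add]
  abel

theorem F_smul (c : ℚ) (P : RelRing g) : F g (c • P) = c • F g P := by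
  simp only [F, dv_smul, mul_smul_comm, ← Finset.smul_sum, smul_add, smul_comm c (1 / 2 : ℚ)]

/-- `F` as a linear map. -/
def Flin (g : ℕ) : RelRing g →ₗ[ℚ] RelRing g := ⟨⟨F g, F_add⟩, F_smul⟩

theorem Flin_iterate (m : ℕ) : (Flin g : RelRing g → RelRing g)^[m] = (F g)^[m] := rfl

theorem pow_Flin (m : ℕ) (P : RelRing g) : (Flin g ^ m) P = (F g)^[m] P := by
  rw [Module.End.coe_pow]; rfl

theorem isHom_F {P : RelRing g} {n : ℤ × ℤ} (h : IsWeightedHomogeneous (wz g) P n) :
    IsWeightedHomogeneous (wz g) (F g P) (n - (2, 0)) := by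
  rw [F]
  refine IsWeightedHomogeneous.add ?_ (IsWeightedHomogeneous.sum _ _ _ fun p _ => ?_)
  · rw [MvPolynomial.smul_eq_C_mul]
    refine IsWeightedHomogeneous.C_mul (IsWeightedHomogeneous.sum _ _ _ fun p _ =>
      IsWeightedHomogeneous.sum _ _ _ fun q _ => ?_) _
    have e : n - (2, 0) = (((p.1 : ℤ) + q.1 - 2, (p.2 : ℤ) + q.2)) +
        (n - ((q.1 : ℤ), (q.2 : ℤ)) - ((p.1 : ℤ), (p.2 : ℤ))) := by
      ext <;> simp <;> ring
    rw [e]
    refine IsWeightedHomogeneous.mul ?_ (isHom_dv (isHom_dv h))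
    refine IsWeightedHomogeneous.sub ?_ ?_
    · have hy : IsWeightedHomogeneous (wz g) (X none : RelRing g) (0, 2) := by
        convert isWeightedHomogeneous_X ℚ (wz g) none using 1
        simp [wz, wt]
      convert (hy.mul (isHom_xv ((p.1 : ℤ) - 1) ((p.2 : ℤ) - 1))).mul
        (isHom_xv ((q.1 : ℤ) - 1) ((q.2 : ℤ) - 1)) using 1 <;>
        first | rfl | (refine Prod.ext ?_ ?_ <;> simp <;> ring)
    · rw [show ((mergeCoeff p.1 q.1 : RelRing g)) = C (mergeCoeff p.1 q.1 : ℚ) from (map_natCast C _).symm]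
      exact (isHom_xv _ _).C_mul _
  · convert (isHom_xv ((p.1 : ℤ) - 2) (p.2 : ℤ)).mul (isHom_dv (p := p) h) using 1
    ext <;> simp <;> ring

theorem isHom_iterate {P : RelRing g} {n : ℤ × ℤ} (h : IsWeightedHomogeneous (wz g) P n) (m : ℕ) :
    IsWeightedHomogeneous (wz g) ((F g)^[m] P) (n - (2 * (m : ℤ), 0)) := by
  induction m with
  | zero => simpa [show ((0 : ℤ), (0 : ℤ)) = (0 : ℤ × ℤ) from rfl] using h
  | succ m ih =>
    rw [Function.iterate_succ_apply']
    convert isHom_F ih using 1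
    ext <;> simp <;> ring

theorem euler {P : RelRing g} {a b : ℕ} (h : IsWeightedHomogeneous (wt g) P (a, b)) :
    ∑ p ∈ idx g, (p.1 : RelRing g) * xv g p.1 p.2 * dv g p P = (a : RelRing g) * P := by
  classical
  let _ : Fintype {p : ℕ × ℕ // Valid g p} := Fintype.subtype (p := Valid g) ((idx g).filter (Valid g)) (fun p => by
    simpa using fun h => valid_mem_idx h)
  have h1 : IsWeightedHomogeneous (fun v => (wt g v).1) P a := by
    intro d hd
    have := congrArg Prod.fst (h hd)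
    simp only at this
    rw [← this, Finsupp.weight_apply, Finsupp.weight_apply, Finsupp.sum, Finsupp.sum, Prod.fst_sum]
    simp
  have h2 := IsWeightedHomogeneous.sum_weight_X_mul_pderiv h1
  rw [nsmul_eq_mul] at h2
  rw [← h2, Fintype.sum_option]
  simp only [wt, nsmul_eq_mul, Nat.cast_zero, zero_mul, zero_add]
  rw [← Finset.sum_filter_of_ne (p := Valid g)]
  · rw [Finset.sum_subtype (p := Valid g) _ (fun p => by simpa using fun h => valid_mem_idx h)]
    refine Finset.sum_congr rfl fun p _ => ?_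
    rw [xv_of_valid p.2, dv, dif_pos p.2, mul_assoc]
  · intro p _ hne
    by_contra hv
    rw [dv, dif_neg hv, mul_zero] at hne
    exact hne rfl

theorem mergeCoeff_two (i : ℕ) : mergeCoeff i 2 = i ∧ mergeCoeff 2 i = i := by
  rcases i with _ | i
  · simp [mergeCoeff]
  · constructor
    · simp [mergeCoeff]
    · simp [mergeCoeff]

theorem dv_x20 (hg : 1 ≤ g) (p : ℕ × ℕ) :
    dv g p (xv g 2 0) = if p = (2, 0) then 1 else 0 := by
  classical
  have h20 : Valid g (2, 0) := ⟨by norm_num, by simp; omega, by decide, by simp⟩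
  rw [show xv g 2 0 = X (some ⟨(2, 0), h20⟩) from xv_of_valid h20]
  unfold dv
  split_ifs with hp he he
  · subst he; simp
  · rw [pderiv_X_of_ne]
    simpa using Ne.symm he
  · exact absurd (he ▸ h20) hp
  · rfl

theorem commutator (hg : 1 ≤ g) {P : RelRing g} {a b : ℕ} (h : IsWeightedHomogeneous (wt g) P (a, b)) :
    F g (E g P) = E g (F g P) + ((g : ℚ) - a) • P := by
  classical
  have h20 : Valid g (2, 0) := ⟨by norm_num, by simp; omega, by decide, by simp⟩
  set x := xv g 2 0 with hx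
  let c : ℕ × ℕ → ℕ × ℕ → RelRing g := fun p q =>
    X none * xv g ((p.1 : ℤ) - 1) ((p.2 : ℤ) - 1) * xv g ((q.1 : ℤ) - 1) ((q.2 : ℤ) - 1)
      - (mergeCoeff p.1 q.1 : RelRing g) * xv g ((p.1 : ℤ) + q.1 - 2) ((p.2 : ℤ) + q.2)
  have hFdef : ∀ Q, F g Q = (1 / 2 : ℚ) • (∑ p ∈ idx g, ∑ q ∈ idx g, c p q * dv g p (dv g q Q)) +
      ∑ p ∈ idx g, xv g ((p.1 : ℤ) - 2) (p.2 : ℤ) * dv g p Q := fun Q => rfl
  have h11 : xv g 1 (-1) = (0 : RelRing g) := by simp [xv]
  have hc1 : ∀ p : ℕ × ℕ, c p (2, 0) = -((p.1 : RelRing g) * xv g p.1 p.2) := fun p => by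
    simp [c, h11, (mergeCoeff_two p.1).1]
  have hc2 : ∀ p : ℕ × ℕ, c (2, 0) p = -((p.1 : RelRing g) * xv g p.1 p.2) := fun p => by
    simp [c, h11, (mergeCoeff_two p.1).2, add_comm]
  have d1 : ∀ q, dv g q (x * P) = (if q = (2, 0) then P else 0) + x * dv g q P := fun q => by
    rw [dv_mul, dv_x20 hg, ite_mul, one_mul, zero_mul]
  have d2 : ∀ p q, dv g p (dv g q (x * P)) =
      (if q = (2, 0) then dv g p P else 0) + (if p = (2, 0) then dv g q P else 0) + x * dv g p (dv g q P) := by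
    intro p q
    rw [d1, dv_add, dv_mul, dv_x20 hg, ite_mul, one_mul, zero_mul, add_assoc]
    congr 1
    split_ifs
    · rfl
    · unfold dv; split_ifs <;> simp
  rw [E, E, ← hx, hFdef, hFdef]
  simp only [d2]
  simp only [d1, mul_add, Finset.sum_add_distrib, mul_ite, mul_zero, Finset.sum_ite_eq',
    if_pos (valid_mem_idx h20)]
  rw [show ∀ f : ℕ × ℕ → RelRing g, (∑ p ∈ idx g, ∑ q ∈ idx g, (if p = (2, 0) then c p q * f q else 0)) =
      ∑ q ∈ idx g, c (2, 0) q * f q from fun f => by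
    rw [Finset.sum_comm]
    simp only [Finset.sum_ite_eq', if_pos (valid_mem_idx h20)]]
  simp only [hc1, hc2, neg_mul, Finset.sum_neg_distrib, euler h]
  have h00 : xv g (((2, 0) : ℕ × ℕ).1 - 2 : ℤ) ((0 : ℕ) : ℤ) = (g : RelRing g) := by simp [xv]
  rw [show (((2, 0) : ℕ × ℕ).2 : ℤ) = ((0 : ℕ) : ℤ) from rfl, h00]
  simp only [← Finset.mul_sum, mul_left_comm _ x]
  rw [mul_smul_comm]
  simp only [Algebra.smul_def, MvPolynomial.algebraMap_eq, map_sub, map_natCast]
  have hh : (C (1 / 2 : ℚ) : RelRing g) + C (1 / 2 : ℚ) = 1 := by rw [← map_add]; norm_num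
  linear_combination (-((a : RelRing g) * P)) * hh

theorem iterate_E (hg : 1 ≤ g) {P : RelRing g} {a b : ℕ} (h : IsWeightedHomogeneous (wt g) P (a, b))
    (m : ℕ) : (F g)^[m + 1] (E g P) =
      E g ((F g)^[m + 1] P) + (((m : ℚ) + 1) * ((g : ℚ) - a + m)) • (F g)^[m] P := by
  induction m with
  | zero => simpa using commutator hg h
  | succ m ih =>
    rw [Function.iterate_succ_apply' (F g) (m + 1) (E g P), ih, F_add, F_smul,
      Function.iterate_succ_apply' (F g) (m + 1) P, ← Function.iterate_succ_apply' (F g) m P]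
    by_cases hz : (F g)^[m + 1] P = 0
    · have h0 : F g 0 = 0 := map_zero (Flin g)
      simp [hz, E, h0]
    · have hw := isHom_iterate (isHom_of_wt h) (m + 1)
      have hpos : 0 ≤ (a : ℤ) - 2 * ((m + 1 : ℕ) : ℤ) := by
        by_contra hneg
        exact hz (eq_zero_of_neg hw (by simp at hneg ⊢; omega))
      have hle : 2 * (m + 1) ≤ a := by omega
      have hn : IsWeightedHomogeneous (wt g) ((F g)^[m + 1] P) (a - 2 * (m + 1), b) := fun d hd => by
        have := hw hd
        rw [weight_wz] at this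
        have e1 := congrArg Prod.fst this
        have e2 := congrArg Prod.snd this
        simp at e1 e2
        exact Prod.ext (by simp; omega) (by simp; omega)
      rw [commutator hg hn, add_assoc, ← add_smul]
      congr 2
      rw [Nat.cast_sub hle]
      push_cast
      ring

end Groth.TautJac
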