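import Mathlib
import Groth.Agent.TautJac.Basic

/-! The relations impose nothing in low second degree. -/

set_option autoImplicit false

noncomputable section

open MvPolynomial W4c3tautjacobian

namespace Groth.TautJac

variable {g : ℕ}

theorem le_three_mul {p : ℕ × ℕ} (h : Valid g p) (hne : p ≠ (2, 0)) : p.1 ≤ 3 * p.2 := by
  obtain ⟨a, b⟩ := p
  obtain ⟨h1, -, h3, h4⟩ := h
  simp only [ne_eq, Prod.mk.injEq] at hne h4 h1 h3 ⊢
  rcases Nat.eq_zero_or_pos b with rfl | hb
  · obtain ⟨c, hc⟩ := h3
    omega
  · omega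

theorem weight_le (d : Var g →₀ ℕ)
    (hd : ∀ v ∈ d.support, (wt g v).1 ≤ 3 * (wt g v).2) :
    (Finsupp.weight (wt g) d).1 ≤ 3 * (Finsupp.weight (wt g) d).2 := by
  rw [Finsupp.weight_apply, Finsupp.sum, Prod.fst_sum, Prod.snd_sum, Finset.mul_sum]
  refine Finset.sum_le_sum fun v hv => ?_
  have := hd v hv
  simp only [Prod.smul_fst, Prod.smul_snd, smul_eq_mul]
  nlinarith

theorem iterate_monomial_eq_zero (hg : 1 ≤ g) {n : ℕ} (hn : 3 * n ≤ 2 * g) :
    ∀ (k : ℕ) (d : Var g →₀ ℕ) (j : ℕ), Finsupp.weight (wt g) d = (2 * k, j) → j ≤ n → g < k →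
      (F g)^[k] (monomial d 1) = 0 := by
  classical
  intro k
  induction k using Nat.strong_induction_on with
  | _ k IH =>
    intro d j hd hj hk
    have h20 : Valid g (2, 0) := ⟨by norm_num, by simp; omega, by decide, by simp⟩
    let v : Var g := some ⟨(2, 0), h20⟩
    have hv : v ∈ d.support := by
      by_contra hv
      have := weight_le d fun w hw => by
        rcases w with _ | ⟨p, hp⟩
        · simp [wt]
        · refine le_three_mul hp fun e => hv ?_
          subst e
          exact hw
      rw [hd] at this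
      simp only at this
      omega
    obtain ⟨d', rfl⟩ : ∃ d', d = Finsupp.single v 1 + d' :=
      ⟨d - Finsupp.single v 1, (add_tsub_cancel_of_le (Finsupp.single_le_iff.2
        (Nat.pos_of_ne_zero (Finsupp.mem_support_iff.1 hv)))).symm⟩
    have hd' : Finsupp.weight (wt g) d' = (2 * (k - 1), j) := by
      rw [map_add, show Finsupp.weight (wt g) (Finsupp.single v 1) = ((2, 0) : ℕ × ℕ) by
        simp [Finsupp.weight_apply, v, wt]] at hd
      have e1 := congrArg Prod.fst hd
      have e2 := congrArg Prod.snd hd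
      simp only [Prod.fst_add, Prod.snd_add] at e1 e2
      exact Prod.ext (by simp only; omega) (by simp only; omega)
    have hm : (monomial (Finsupp.single v 1 + d') 1 : RelRing g) = E g (monomial d' 1) := by
      rw [E, show xv g 2 0 = X v from xv_of_valid h20, X, monomial_mul, one_mul]
    obtain ⟨k', rfl⟩ : ∃ k', k = k' + 1 := ⟨k - 1, by omega⟩
    simp only [Nat.add_sub_cancel] at hd'
    have hw : IsWeightedHomogeneous (wt g) (monomial d' 1 : RelRing g) (2 * k', j) :=
      isWeightedHomogeneous_monomial _ _ _ hd'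
    have h1 : (F g)^[k' + 1] (monomial d' 1 : RelRing g) = 0 :=
      eq_zero_of_neg (isHom_iterate (isHom_of_wt hw) (k' + 1)) (by simp)
    rw [hm, iterate_E hg hw, h1]
    rcases (show k' = g ∨ g < k' by omega) with hk' | hk'
    · have h2 : (g : ℚ) - ((2 * k' : ℕ) : ℚ) + (k' : ℚ) = 0 := by rw [hk']; push_cast; ring
      rw [h2, mul_zero, zero_smul, add_zero]
      simp [E]
    · rw [IH k' (Nat.lt_succ_self k') d' j hd' hj hk']
      simp [E]

/-- Polynomials with no coefficients in first degree `0` and second degree at most `n`. -/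
def lowVanish (g n : ℕ) : Ideal (RelRing g) where
  carrier := {P | ∀ d, (Finsupp.weight (wt g) d).1 = 0 → (Finsupp.weight (wt g) d).2 ≤ n → coeff d P = 0}
  add_mem' := fun ha hb d h1 h2 => by rw [coeff_add, ha d h1 h2, hb d h1 h2, add_zero]
  zero_mem' := fun d _ _ => coeff_zero d
  smul_mem' := fun c P hP d h1 h2 => by
    classical
    rw [smul_eq_mul, coeff_mul]
    refine Finset.sum_eq_zero fun x hx => ?_
    have e : x.1 + x.2 = d := Finset.HasAntidiagonal.mem_antidiagonal.1 hx
    have e1 := congrArg (fun z => (Finsupp.weight (wt g) z).1) e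
    have e2 := congrArg (fun z => (Finsupp.weight (wt g) z).2) e
    simp only [map_add, Prod.fst_add, Prod.snd_add] at e1 e2
    rw [hP x.2 (by omega) (by omega), mul_zero]

theorem relIdeal_le (hg : 1 ≤ g) {n : ℕ} (hn : 3 * n ≤ 2 * g) : relIdeal g ≤ lowVanish g n := by
  refine Ideal.span_le.2 ?_
  rintro P ⟨e, t, he, rfl⟩ d h1 h2
  by_contra hne
  have hw : IsWeightedHomogeneous (wt g) (monomial e 1 : RelRing g)
      ((Finsupp.weight (wt g) e).1, (Finsupp.weight (wt g) e).2) := isWeightedHomogeneous_monomial _ _ _ rfl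
  have := isHom_iterate (isHom_of_wt hw) t hne
  rw [weight_wz] at this
  have e1 := congrArg Prod.fst this
  have e2 := congrArg Prod.snd this
  simp only [Prod.fst_sub, Prod.snd_sub] at e1 e2
  refine hne ?_
  have he' : Finsupp.weight (wt g) e = (2 * t, (Finsupp.weight (wt g) d).2) :=
    Prod.ext (by simp only; omega) (by simp only; omega)
  rw [iterate_monomial_eq_zero hg hn t e _ he' h2 (by omega), coeff_zero]

end Groth.TautJac
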